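import Cfsg.Agent.H96.Reg.Tool
import Cfsg.Agent.H149.Sp.Small
import Cfsg.Agent.H524.SporPrim
import Cfsg.Agent.OrdDiv.Table

/-!
# `RegAll` for the Lyons group

`p` odd: the involutions (`|C(t)| = 39916800`), elements of order 8, elements of order 37 and 67.
`p = 2`: the centralizer of an element `y` of odd prime order commuting with an element of order 67 has cyclic Sylow
2-subgroups, hence is solvable; 37 and 67 are not adjacent, so no such `y` commutes with elements of order 37 and 67.
-/

set_option autoImplicit false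

namespace Cfsg.Agent.H96.Reg

open Subgroup Cfsg Cfsg.Agent.H524.DirRed Cfsg.Agent.H524.RegTool Cfsg.Agent.H393.Iso
open Cfsg.Agent.H149.Sp Cfsg.Agent.H296.TwoPart Cfsg.Agent.H296.Comm Cfsg.Agent.OrdDiv Cfsg.Agent.TypeM.Two

universe u

theorem ly_37_67 {G : Type*} [Group G] [Finite G] (h : Spor.IsoLy G) : ¬ Cfsg.Agent.H163.PG.Adj G 67 37 := by
  obtain ⟨-, hs, hN, -⟩ := TypeM.FactsLy.facts h
  have n37 : NA 37 G := na_ly_all h (by norm_num) (by norm_num) (by norm_num)
  have n67 : NA 67 G := na_ly_all h (by norm_num) (by norm_num) (by norm_num)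
  have h1 : ¬ Cfsg.Agent.H163.PG.Adj G 37 67 := Eng.not_adj (r := 37) (s := 67) (a := 8) (M := 20881476000000)
    (L := [(3, 7), (5, 6), (7, 1), (11, 1), (31, 1)]) (ks := [2, 3, 6, 11, 22, 33, 66]) (kills := []) (by rw [hN])
    (by decide +kernel) (by norm_num) (by simp; norm_num)
    (by decide) (by decide +kernel) (by decide +kernel) (by decide +kernel) n37 n67 (by simp)
  exact fun h => h1 h.symm

section

variable (AK : ∀ (S : Type u) [Group S] [Finite S] [IsSimpleGroup S], IsKnownSimple' S)

include AK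

/-- the centralizer of `y` is solvable -/
theorem ly_solvable {G : Type u} [Group G] [Finite G] (h : Spor.IsoLy G) {q N : ℕ} {L : List (ℕ × ℕ)} (hq : q.Prime)
    (hN' : N * q = 51765179004000000) (hv : valid L N = true)
    (hc : ((cands L N).filter fun g => ordN g % 67 == 0) = []) {x y : G} (hx : orderOf x = 67) (hy : orderOf y = q)
    (hxy : Commute x y) : Group.IsSolvable ↥(centralizer ({y} : Set G)) := by
  obtain ⟨-, hs, hN, -⟩ := TypeM.FactsLy.facts h
  have n67 : NA 67 G := na_ly_all h (by norm_num) (by norm_num) (by norm_num)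
  have h67 : Nat.Prime 67 := by norm_num
  have hDc : Nat.card ↥(centralizer ({y} : Set G)) ∣ 51765179004000000 := hN ▸ Subgroup.card_subgroup_dvd_card _
  have hnum : ∀ k : ℕ, k ≠ 0 → 2 ^ k ∣ Nat.card (centralizer ({y} : Set G)) → ¬ 67 ∣ 2 ^ k - 1 := by
    intro k hk hd
    have h1 : k ≤ 8 := by
      by_contra hc'
      exact absurd (((pow_dvd_pow 2 (by omega : 9 ≤ k)).trans hd).trans hDc) (by norm_num)
    interval_cases k <;> first | exact absurd rfl hk | norm_num
  obtain ⟨R, M, hR, F⟩ := comm_cases AK OrdDiv.table hq h67 (by norm_num)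
    (by rw [hN]; norm_num) n67 hx hy hxy.eq hnum hv (by rw [hN, hN'])
  have hS : Nat.card ↥(M.map (QuotientGroup.mk' R)) = 67 := by
    rcases F.cas with h1 | ⟨g, hg, -⟩
    · exact h1
    · rw [hc] at hg
      simp at hg
  have h2 : Fact (Nat.Prime 2) := ⟨Nat.prime_two⟩
  refine Cfsg.Agent.StdL2.G23Solv.solvable_of_cyclic (fun _ _ _ ho => S0205.result ho) fun P => ?_
  exact F.fac.isCyclic h67 (fun h1 => absurd (h1.trans hDc) (by norm_num)) Nat.prime_two (by norm_num)
    ((nonAdj_of_na h67 (by norm_num) n67).subgroup _) hnum hS P.isPGroup'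

theorem ly_two {G : Type u} [Group G] [Finite G] (h : Spor.IsoLy G) {q N : ℕ} {L : List (ℕ × ℕ)} (hq : q.Prime)
    (hN' : N * q = 51765179004000000) (hv : valid L N = true)
    (hc : ((cands L N).filter fun g => ordN g % 67 == 0) = []) : RegB G 2 q := by
  obtain ⟨-, hs, hN, -⟩ := TypeM.FactsLy.facts h
  refine reg_two (l := 67) (m := 37) hq (by rw [hN, ← hN']; exact dvd_mul_left _ _) (by norm_num) (by norm_num)
    (by norm_num) (by norm_num) (by rw [hN]; norm_num) (by rw [hN]; norm_num) ?_
  intro y a b hy ha hb hay hby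
  exact not_both (l := 67) (m := 37) (by norm_num) (by norm_num) (by norm_num) (by rw [hN]; norm_num)
    (by rw [hN]; norm_num) (by norm_num) (by norm_num) (ly_37_67 h) ha hb hay hby (ly_solvable AK h hq hN' hv hc ha hy hay)

theorem ly_two_all {G : Type u} [Group G] [Finite G] (h : Spor.IsoLy G) :
    ∀ q ∈ [3, 5, 7, 11, 31], RegB G 2 q := by
  intro q hq
  simp only [List.mem_cons, List.not_mem_nil, or_false] at hq
  rcases hq with rfl | rfl | rfl | rfl | rfl
  · exact ly_two AK h (N := 17255059668000000) (L := [(2, 8), (3, 6), (5, 6), (7, 1), (11, 1), (31, 1), (37, 1), (67, 1)])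
      (by norm_num) (by norm_num) (by decide +kernel) (by decide +kernel)
  · exact ly_two AK h (N := 10353035800800000) (L := [(2, 8), (3, 7), (5, 5), (7, 1), (11, 1), (31, 1), (37, 1), (67, 1)])
      (by norm_num) (by norm_num) (by decide +kernel) (by decide +kernel)
  · exact ly_two AK h (N := 7395025572000000) (L := [(2, 8), (3, 7), (5, 6), (11, 1), (31, 1), (37, 1), (67, 1)])
      (by norm_num) (by norm_num) (by decide +kernel) (by decide +kernel)
  · exact ly_two AK h (N := 4705925364000000) (L := [(2, 8), (3, 7), (5, 6), (7, 1), (31, 1), (37, 1), (67, 1)])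
      (by norm_num) (by norm_num) (by decide +kernel) (by decide +kernel)
  · exact ly_two AK h (N := 1669844484000000) (L := [(2, 8), (3, 7), (5, 6), (7, 1), (11, 1), (37, 1), (67, 1)])
      (by norm_num) (by norm_num) (by decide +kernel) (by decide +kernel)

/-- **`Ly`** -/
theorem regAll_ly_of {G : Type u} [Group G] [Finite G] (h : Spor.IsoLy G) : RegAll G := by
  obtain ⟨-, hs, hN, ⟨L⟩⟩ := TypeM.FactsLy.facts h
  have n37 : NA 37 G := na_ly_all h (by norm_num) (by norm_num) (by norm_num)
  have n67 : NA 67 G := na_ly_all h (by norm_num) (by norm_num) (by norm_num)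
  have n67' := ly_37_67 h
  have hcases : ∀ q : ℕ, q.Prime → q ∣ Nat.card G → q ∈ [2, 3, 5, 7, 11, 31, 37, 67] := by
    intro q hq hd
    rw [hN] at hd
    have h1 : q ∣ (2 * (3 * (5 * (7 * (11 * (31 * (37 * 67))))))) ^ 8 := hd.trans (by norm_num)
    have h2 := hq.dvd_of_dvd_pow h1
    simp only [hq.dvd_mul] at h2
    have h3 : ∀ r : ℕ, r.Prime → q ∣ r → q = r := fun r hr h => (Nat.prime_dvd_prime_iff_eq hq hr).1 h
    rcases h2 with h | h | h | h | h | h | h | h
    · simp [h3 2 (by norm_num) h]
    · simp [h3 3 (by norm_num) h]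
    · simp [h3 5 (by norm_num) h]
    · simp [h3 7 (by norm_num) h]
    · simp [h3 11 (by norm_num) h]
    · simp [h3 31 (by norm_num) h]
    · simp [h3 37 (by norm_num) h]
    · simp [h3 67 (by norm_num) h]
  intro p q hp hq hpq hd
  have hm := hcases q hq hd
  by_cases hp2 : p = 2
  · subst hp2
    simp only [List.mem_cons, List.not_mem_nil, or_false] at hm
    rcases hm with rfl | rfl | rfl | rfl | rfl | rfl | rfl | rfl
    · exact absurd rfl hpq
    · exact ly_two_all AK h _ (by simp)
    · exact ly_two_all AK h _ (by simp)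
    · exact ly_two_all AK h _ (by simp)
    · exact ly_two_all AK h _ (by simp)
    · exact ly_two_all AK h _ (by simp)
    · exact RegB.of_not_adj (r := 67) hp hq (by norm_num) (by norm_num) (by norm_num) (by rw [hN]; norm_num) hd
        fun h => n67' (adj_of h)
    · exact RegB.of_not_adj (r := 37) hp hq (by norm_num) (by norm_num) (by norm_num) (by rw [hN]; norm_num) hd
        fun h => n67' (adj_of h).symm
  · have hc : Nat.card (centralizer ({L.t} : Set G)) = 39916800 := H845.CopLy.card_cent L
    have hz : orderOf L.t = 2 := orderOf_eq_prime (by rw [pow_two, L.t_mul_t]) L.t_ne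
    have hzp : ¬ p ∣ orderOf L.t := by
      rw [hz]
      exact fun h => hp2 ((Nat.prime_dvd_prime_iff_eq hp Nat.prime_two).1 h)
    obtain ⟨y, hy⟩ := H524.SporTool.exists_eight L (τ := H729.PairMT.t11) (by decide +kernel) (a := 7) (b := 9) (c := 8)
      (d := 10) (by decide) (by decide) (by decide) (by decide) (by decide) (by decide) (by decide +kernel)
    have hyp : ¬ p ∣ orderOf y := by
      rw [hy, show (8 : ℕ) = 2 ^ 3 by norm_num]
      exact fun h => hp2 ((Nat.prime_dvd_prime_iff_eq hp Nat.prime_two).1 (hp.dvd_of_dvd_pow h))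
    have h8 : ∀ r : ℕ, r.Prime → r ≠ 2 → 11 < 2 * r → 11 ≤ r + 4 → r ∣ Nat.card G → RegB G p r := by
      intro r hr hr2 h1 h2 hrd
      have hf : Fact r.Prime := ⟨hr⟩
      refine RegB.of_pow (a := 1) hr hyp (by rwa [pow_one]) (fun hcon => ?_)
      rw [pow_one] at hcon
      obtain ⟨g, hg⟩ := exists_prime_orderOf_dvd_card' r hcon
      exact H729.PairMT.no_comm hr hr2 h1 h2 L (g := (g : G)) (y := y) (by rw [orderOf_coe, hg]) hy
        (mem_centralizer_singleton_iff.1 g.2)
    simp only [List.mem_cons, List.not_mem_nil, or_false] at hm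
    rcases hm with rfl | rfl | rfl | rfl | rfl | rfl | rfl | rfl
    · by_cases hp67 : p = 67
      · exact RegB.two_of_na hp (r := 37) (by norm_num) (by rw [hp67]; norm_num) (by norm_num) (by rw [hN]; norm_num) hd n37
      · exact RegB.two_of_na hp (r := 67) (by norm_num) (Ne.symm hp67) (by norm_num) (by rw [hN]; norm_num) hd n67
    · exact RegB.of_dvd (a := 7) hq hzp (dvd_of_eq hc) (by rw [hN]; norm_num) (by norm_num)
    · exact RegB.of_dvd (a := 6) hq hzp (dvd_of_eq hc) (by rw [hN]; norm_num) (by norm_num)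
    · exact h8 7 hq (by norm_num) (by norm_num) (by norm_num) hd
    · exact h8 11 hq (by norm_num) (by norm_num) (by norm_num) hd
    · exact RegB.of_dvd (a := 1) hq hzp (dvd_of_eq hc) (by rw [hN]; norm_num) (by norm_num)
    · exact RegB.of_dvd (a := 1) hq hzp (dvd_of_eq hc) (by rw [hN]; norm_num) (by norm_num)
    · exact RegB.of_dvd (a := 1) hq hzp (dvd_of_eq hc) (by rw [hN]; norm_num) (by norm_num)

end

end Cfsg.Agent.H96.Reg
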