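import Cfsg.Agent.H96.Reg.Tool
import Cfsg.Agent.H149.Sp.Small
import Cfsg.Agent.H524.SporON
import Cfsg.Agent.H296.ONCore
import Cfsg.Agent.OrdDiv.Table

/-!
# `RegAll` for the O'Nan group

`p` odd: an element of order 4 with a 2-group as centralizer; elements of order 19, 31.
`p = 2`: 11, 19, 31 are pairwise nonadjacent, 3 and 31 are nonadjacent, 7 and 11 are nonadjacent. An element `y` of order 5
does not commute with elements `a`, `b` of orders 11 and 31: otherwise `|C(a)| = 55`, `|C(b)| = 155`, `N(⟨y⟩)` contains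
`N(⟨a⟩)` and `N(⟨b⟩)` and Sylow's congruences show that `⟨y⟩` is normal.
-/

set_option autoImplicit false

namespace Cfsg.Agent.H96.Reg

open Subgroup Cfsg Cfsg.Agent.H524.DirRed Cfsg.Agent.H524.RegTool Cfsg.Agent.H393.Iso
open Cfsg.Agent.H149.Sp Cfsg.Agent.OrdDiv
open Cfsg.Spor (ON)
open Eng (Cm Nm prodL okPair okKs)

/-- `|C(u)| = r s` -/
theorem nm_le_of_card {G : Type*} [Group G] [Finite G] {r s : ℕ} (hr : r.Prime) (hs : s.Prime) (hrs : r ≠ s) {u v : G}
    (hu : orderOf u = r) (hv : orderOf v = s) (huv : u * v = v * u) (hc : Nat.card (Cm u) = r * s) : Nm u ≤ Nm v := by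
  have hcu : Commute u v := huv
  have ho : orderOf (u * v) = r * s := by
    rw [hcu.orderOf_mul_eq_mul_orderOf_of_coprime, hu, hv]
    rw [hu, hv]
    exact (Nat.coprime_primes hr hs).2 hrs
  have hle : zpowers (u * v) ≤ Cm u := by
    rw [zpowers_le, mem_cent]
    show u * v * u = u * (u * v)
    rw [mul_assoc, ← huv]
  have heq : zpowers (u * v) = Cm u := by
    apply eq_of_le_of_card_ge hle
    rw [hc, Nat.card_zpowers, ho]
  intro g hg1
  apply Eng.mem_nm_of
  have h5 : g * v * g⁻¹ ∈ Cm u := by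
    have h1 : g⁻¹ * u * g ∈ zpowers u := by
      have h2 : g⁻¹ ∈ Nm u := (Nm u).inv_mem hg1
      have h3 := (Eng.mem_nm.1 h2 u).1 (mem_zpowers u)
      rwa [inv_inv] at h3
    obtain ⟨n, hn⟩ := mem_zpowers_iff.1 h1
    have h4 : Commute v (g⁻¹ * u * g) := by
      rw [← hn]
      exact Commute.zpow_right (show Commute v u from huv.symm) n
    rw [mem_cent]
    calc g * v * g⁻¹ * u = g * (v * (g⁻¹ * u * g)) * g⁻¹ := by group
      _ = g * ((g⁻¹ * u * g) * v) * g⁻¹ := by rw [h4.eq]
      _ = u * (g * v * g⁻¹) := by group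
  rw [← heq] at h5
  obtain ⟨n, hn⟩ := mem_powers_iff_mem_zpowers.2 h5
  have hn' : (u * v) ^ n = g * v * g⁻¹ := hn
  have h6 : (g * v * g⁻¹) ^ s = 1 := by
    rw [conj_pow, ← hv, pow_orderOf_eq_one, mul_one, mul_inv_cancel]
  rw [← hn', ← pow_mul, hcu.mul_pow, mul_comm n s, pow_mul v, ← hv, pow_orderOf_eq_one, one_pow, mul_one, hv] at h6
  have h7 : r ∣ s * n := hu ▸ orderOf_dvd_of_pow_eq_one h6
  have h8 : r ∣ n := (hr.dvd_mul.1 h7).resolve_left (fun h => hrs ((Nat.prime_dvd_prime_iff_eq hr hs).1 h))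
  have h9 : u ^ n = 1 := orderOf_dvd_iff_pow_eq_one.1 (hu ▸ h8)
  rw [← hn', hcu.mul_pow, h9, one_mul]
  exact ⟨n, by simp⟩

theorem on_card : Nat.card ON = 460815505920 := H296.ONCore.card_on

theorem on_simple : IsSimpleGroup ON := S1699.result.1

theorem na_on {l : ℕ} (h : ¬ l ∣ 161280) : NA l ON := by
  have := KFacts.ON.Cent.finite_ON
  exact H296.ONCore.na_of h

theorem on_nadj : ¬ Cfsg.Agent.H163.PG.Adj ON 19 31 ∧ ¬ Cfsg.Agent.H163.PG.Adj ON 11 31 ∧
    ¬ Cfsg.Agent.H163.PG.Adj ON 19 11 := by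
  have := KFacts.ON.Cent.finite_ON
  have hs := on_simple
  have hN := on_card
  have n11 : NA 11 ON := na_on (by norm_num)
  have n19 : NA 19 ON := na_on (by norm_num)
  have n31 : NA 31 ON := na_on (by norm_num)
  have h1 : ¬ Cfsg.Agent.H163.PG.Adj ON 19 31 := Eng.not_adj (r := 19) (s := 31) (a := 9) (M := 782369280)
    (L := [(3, 4), (5, 1), (7, 3), (11, 1)]) (ks := [2, 3, 5, 6, 10, 15, 30]) (kills := []) (by rw [hN])
    (by decide +kernel) (by norm_num) (by simp; norm_num)
    (by decide) (by decide +kernel) (by decide +kernel) (by decide +kernel) n19 n31 (by simp)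
  have h2 : ¬ Cfsg.Agent.H163.PG.Adj ON 11 31 := Eng.not_adj (r := 11) (s := 31) (a := 9) (M := 1351365120)
    (L := [(3, 4), (5, 1), (7, 3), (19, 1)]) (ks := [2, 3, 5, 6, 10, 15, 30]) (kills := [19]) (by rw [hN])
    (by decide +kernel) (by norm_num) (by simp; norm_num)
    (by decide) (by decide +kernel) (by decide +kernel) (by decide +kernel) n11 n31 (by simpa using ⟨by norm_num, h1⟩)
  have h3 : ¬ Cfsg.Agent.H163.PG.Adj ON 19 11 := Eng.not_adj (r := 19) (s := 11) (a := 9) (M := 2204858880)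
    (L := [(3, 4), (5, 1), (7, 3), (31, 1)]) (ks := [2, 5, 10]) (kills := [31]) (by rw [hN])
    (by decide +kernel) (by norm_num) (by simp; norm_num)
    (by decide) (by decide +kernel) (by decide +kernel) (by decide +kernel) n19 n11
    (by simpa using ⟨by norm_num, fun h => h2 h.symm⟩)
  exact ⟨h1, h2, h3⟩

theorem on_seven_eleven : ¬ Cfsg.Agent.H163.PG.Adj ON 11 7 := by
  have := KFacts.ON.Cent.finite_ON
  intro h
  obtain ⟨u, v, hu, hv, huv⟩ := h.exists_commute (by norm_num) (by norm_num)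
  exact H296.ONCore.not_comm_seven hu hv huv

section

variable (AK : ∀ (S : Type) [Group S] [Finite S] [IsSimpleGroup S], IsKnownSimple' S)

include AK

theorem on_three_31 : ¬ Cfsg.Agent.H163.PG.Adj ON 31 3 := by
  have := KFacts.ON.Cent.finite_ON
  intro h
  obtain ⟨u, v, hu, hv, huv⟩ := h.exists_commute (by norm_num) (by norm_num)
  exact H296.ONCore.not_comm_three AK OrdDiv.table hu hv huv

theorem on_five {y a b : ON} (hy : orderOf y = 5) (ha : orderOf a = 11) (hb : orderOf b = 31) (hay : Commute a y)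
    (hby : Commute b y) : False := by
  have := KFacts.ON.Cent.finite_ON
  have hs := on_simple
  have hN := on_card
  obtain ⟨h1, h2, h3⟩ := on_nadj
  have h4 := on_seven_eleven
  have h5 := on_three_31 AK
  have n11 : NA 11 ON := na_on (by norm_num)
  have n31 : NA 31 ON := na_on (by norm_num)
  have p11 : Nat.Prime 11 := by norm_num
  have p31 : Nat.Prime 31 := by norm_num
  have p5 : Nat.Prime 5 := by norm_num
  -- `C(a)`
  obtain ⟨c, k, hc, hck, hodd, hk, hk1, hi, hadj⟩ := Eng.single p11 (by rw [hN]; norm_num) (by rw [hN]; norm_num) n11 ha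
  have e1 : c * k * (Nm a).index = 41892318720 := by
    have h := (Nm a).card_mul_index
    rw [hck, hN] at h
    apply Nat.eq_of_mul_eq_mul_left (show 0 < 11 by norm_num)
    rw [← mul_assoc, ← mul_assoc, h]
  have hc5 : 5 ∣ c := by
    have h0 : orderOf (⟨y, mem_cent.2 hay.symm.eq⟩ : Cm a) = 5 := by rw [← hy, ← orderOf_coe]
    have h6 : 5 ∣ 11 * c := by
      rw [← hc]
      exact h0 ▸ orderOf_dvd_natCard _
    exact (Nat.Coprime.dvd_of_dvd_mul_left (by norm_num) h6)
  have hca : c = 5 := by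
    have h6 := Eng.okPair_spec (M := 41892318720) (L := [(3, 4), (5, 1), (7, 3), (19, 1), (31, 1)]) (a := 9) (m := 11)
      (ks := [2, 5, 10]) (bad := fun c => c % 5 != 0 || c == 5 || c % 7 == 0 || c % 19 == 0 || c % 31 == 0)
      (by simp; norm_num) (by decide +kernel) (by norm_num) (by decide +kernel) hodd
      (Eng.okKs_spec (s := 11) (by decide) (by norm_num) hk hk1) e1 hi
    simp only [Bool.or_eq_true, bne_iff_ne, ne_eq, beq_iff_eq] at h6
    rcases h6 with (((h6 | h6) | h6) | h6) | h6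
    · exact absurd (Nat.mod_eq_zero_of_dvd hc5) h6
    · exact h6
    · exact absurd (hadj 7 (by norm_num) (Nat.dvd_of_mod_eq_zero h6)).symm h4
    · exact absurd (hadj 19 (by norm_num) (Nat.dvd_of_mod_eq_zero h6)) h3
    · exact absurd (hadj 31 (by norm_num) (Nat.dvd_of_mod_eq_zero h6)).symm h2
  subst hca
  -- `C(b)`
  obtain ⟨c', k', hc', hck', hodd', hk', hk1', hi', hadj'⟩ := Eng.single p31 (by rw [hN]; norm_num)
    (by rw [hN]; norm_num) n31 hb
  have e1' : c' * k' * (Nm b).index = 14865016320 := by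
    have h := (Nm b).card_mul_index
    rw [hck', hN] at h
    apply Nat.eq_of_mul_eq_mul_left (show 0 < 31 by norm_num)
    rw [← mul_assoc, ← mul_assoc, h]
  have hc5' : 5 ∣ c' := by
    have h0 : orderOf (⟨y, mem_cent.2 hby.symm.eq⟩ : Cm b) = 5 := by rw [← hy, ← orderOf_coe]
    have h6 : 5 ∣ 31 * c' := by
      rw [← hc']
      exact h0 ▸ orderOf_dvd_natCard _
    exact (Nat.Coprime.dvd_of_dvd_mul_left (by norm_num) h6)
  have hcb : c' = 5 := by
    have h6 := Eng.okPair_spec (M := 14865016320) (L := [(3, 4), (5, 1), (7, 3), (11, 1), (19, 1)]) (a := 9) (m := 31)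
      (ks := [2, 3, 5, 6, 10, 15, 30]) (bad := fun c => c % 5 != 0 || c == 5 || c % 3 == 0 || c % 19 == 0 || c % 11 == 0)
      (by simp; norm_num) (by decide +kernel) (by norm_num) (by decide +kernel) hodd'
      (Eng.okKs_spec (s := 31) (by decide) (by norm_num) hk' hk1') e1' hi'
    simp only [Bool.or_eq_true, bne_iff_ne, ne_eq, beq_iff_eq] at h6
    rcases h6 with (((h6 | h6) | h6) | h6) | h6
    · exact absurd (Nat.mod_eq_zero_of_dvd hc5') h6
    · exact h6
    · exact absurd (hadj' 3 (by norm_num) (Nat.dvd_of_mod_eq_zero h6)).symm h5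
    · exact absurd (hadj' 19 (by norm_num) (Nat.dvd_of_mod_eq_zero h6)) h1
    · exact absurd (hadj' 11 (by norm_num) (Nat.dvd_of_mod_eq_zero h6)) h2
  subst hcb
  -- `N(y)`
  have l1 : Nm a ≤ Nm y := nm_le_of_card p11 p5 (by norm_num) ha hy hay.eq hc
  have l2 : Nm b ≤ Nm y := nm_le_of_card p31 p5 (by norm_num) hb hy hby.eq hc'
  have m1 : (Nm y).index % 11 = 1 := Eng.index_mod_of_le p11 (by rw [hN]; norm_num) ha l1
  have m2 : (Nm y).index % 31 = 1 := Eng.index_mod_of_le p31 (by rw [hN]; norm_num) hb l2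
  have m3 : (Nm y).index % 5 = 1 := Eng.index_nm_mod p5 (by rw [hN]; norm_num) hy
  have hk2 : k = 2 := by
    have h6 : k ∣ 10 := hk
    have h7 : k ≤ 10 := Nat.le_of_dvd (by norm_num) h6
    have h8 : ¬ 5 ∣ k := by
      rintro ⟨j, rfl⟩
      have h9 : 25 ∣ 41892318720 := ⟨j * (Nm a).index, by rw [← e1]; ring⟩
      norm_num at h9
    interval_cases k <;> first | rfl | (exfalso; revert h6 h8 hk1; decide)
  have d1 : 110 ∣ Nat.card (Nm y) := by
    have h6 := card_dvd_of_le l1
    rw [hck, hk2] at h6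
    exact h6
  have d2 : 31 ∣ Nat.card (Nm y) := by
    have h6 := card_dvd_of_le l2
    rw [hck', mul_assoc] at h6
    exact (dvd_mul_right _ _).trans h6
  have d3 : 3410 ∣ Nat.card (Nm y) := by
    have := Nat.Coprime.mul_dvd_of_dvd_of_dvd (by norm_num : Nat.Coprime 110 31) d1 d2
    exact this
  have d4 : (Nm y).index ∣ prodL [(2, 8), (3, 4), (7, 3), (19, 1)] := by
    obtain ⟨w, hw⟩ := d3
    have h6 := (Nm y).card_mul_index
    rw [hN, hw] at h6
    refine ⟨w, ?_⟩
    apply Nat.eq_of_mul_eq_mul_left (show 0 < 3410 by norm_num)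
    rw [show 3410 * prodL [(2, 8), (3, 4), (7, 3), (19, 1)] = 460815505920 by decide +kernel, ← h6]
    ring
  have h9 := Eng.mem_divs (by simp; norm_num) d4
  have h10 : ∀ e ∈ Eng.divs [(2, 8), (3, 4), (7, 3), (19, 1)], e % 11 = 1 → e % 31 = 1 → e % 5 = 1 → e = 1 := by
    decide +kernel
  have h11 := h10 _ h9 m1 m2 m3
  rw [index_eq_one] at h11
  have h12 : (zpowers y).Normal := normalizer_eq_top_iff.1 h11
  rcases IsSimpleGroup.eq_bot_or_eq_top_of_normal _ h12 with h13 | h13
  · rw [zpowers_eq_bot] at h13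
    rw [h13, orderOf_one] at hy
    norm_num at hy
  · have h14 := Nat.card_zpowers y
    rw [h13, card_top, hN, hy] at h14
    norm_num at h14

theorem regAll_on_model : RegAll ON := by
  have := KFacts.ON.Cent.finite_ON
  have hN := on_card
  obtain ⟨h1, h2, h3⟩ := on_nadj
  have n31 : NA 31 ON := na_on (by norm_num)
  have n19 : NA 19 ON := na_on (by norm_num)
  have hcases : ∀ q : ℕ, q.Prime → q ∣ Nat.card ON → q ∈ [2, 3, 5, 7, 11, 19, 31] := by
    intro q hq hd
    rw [hN] at hd
    have h1 : q ∣ (2 * (3 * (5 * (7 * (11 * (19 * 31)))))) ^ 9 := hd.trans (by norm_num)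
    have h2 := hq.dvd_of_dvd_pow h1
    simp only [hq.dvd_mul] at h2
    have h3 : ∀ r : ℕ, r.Prime → q ∣ r → q = r := fun r hr h => (Nat.prime_dvd_prime_iff_eq hq hr).1 h
    rcases h2 with h | h | h | h | h | h | h
    · simp [h3 2 (by norm_num) h]
    · simp [h3 3 (by norm_num) h]
    · simp [h3 5 (by norm_num) h]
    · simp [h3 7 (by norm_num) h]
    · simp [h3 11 (by norm_num) h]
    · simp [h3 19 (by norm_num) h]
    · simp [h3 31 (by norm_num) h]
  intro p q hp hq hpq hd
  have hm := hcases q hq hd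
  by_cases hp2 : p = 2
  · subst hp2
    simp only [List.mem_cons, List.not_mem_nil, or_false] at hm
    rcases hm with rfl | rfl | rfl | rfl | rfl | rfl | rfl
    · exact absurd rfl hpq
    · exact RegB.of_not_adj (r := 31) hp hq (by norm_num) (by norm_num) (by norm_num) (by rw [hN]; norm_num) hd
        fun h => on_three_31 AK (adj_of h)
    · exact reg_two (l := 11) (m := 31) hq hd (by norm_num) (by norm_num) (by norm_num) (by norm_num)
        (by rw [hN]; norm_num) (by rw [hN]; norm_num) fun y a b hy ha hb hay hby => on_five AK hy ha hb hay hby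
    · exact RegB.of_not_adj (r := 11) hp hq (by norm_num) (by norm_num) (by norm_num) (by rw [hN]; norm_num) hd
        fun h => on_seven_eleven (adj_of h)
    · exact RegB.of_not_adj (r := 19) hp hq (by norm_num) (by norm_num) (by norm_num) (by rw [hN]; norm_num) hd
        fun h => h3 (adj_of h)
    · exact RegB.of_not_adj (r := 31) hp hq (by norm_num) (by norm_num) (by norm_num) (by rw [hN]; norm_num) hd
        fun h => h1 (adj_of h).symm
    · exact RegB.of_not_adj (r := 19) hp hq (by norm_num) (by norm_num) (by norm_num) (by rw [hN]; norm_num) hd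
        fun h => h1 (adj_of h)
  · by_cases hq2 : q = 2
    · subst hq2
      by_cases hp31 : p = 31
      · exact RegB.two_of_na hp (r := 19) (by norm_num) (by rw [hp31]; norm_num) (by norm_num) (by rw [hN]; norm_num) hd n19
      · exact RegB.two_of_na hp (r := 31) (by norm_num) (Ne.symm hp31) (by norm_num) (by rw [hN]; norm_num) hd n31
    · refine RegB.of_pow (a := 1) (x := KFacts.ON.Words.v * SporadicB.ON45Word.on .a) hq ?_ (by rwa [pow_one]) fun hc => ?_
      · rw [H524.SporTool.orderOf_va]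
        exact fun h => hp2 ((Nat.prime_dvd_prime_iff_eq hp Nat.prime_two).1 (hp.dvd_of_dvd_pow h))
      · rw [pow_one] at hc
        have hf : Fact q.Prime := ⟨hq⟩
        obtain ⟨x, hx⟩ := exists_prime_orderOf_dvd_card' q hc
        have hx' : orderOf (x : ON) = q := by rw [orderOf_coe, hx]
        have h5 := H524.SporTool.two_of_comm_va (x := (x : ON)) (by rw [hx']; exact hq)
          (mem_centralizer_singleton_iff.1 x.2)
        exact hq2 (hx'.symm.trans h5)

theorem regAll_on_of {G : Type*} [Group G] [Finite G] (h : Spor.IsoON G) : RegAll G := by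
  obtain ⟨e⟩ := h
  exact (regAll_on_model AK).congr e.symm

end

end Cfsg.Agent.H96.Reg
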