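import Cfsg.Agent.H96.Reg.Ly
import Cfsg.Agent.H96.Reg.ON
import Cfsg.Agent.S0000

/-!
# `RegAll` for `Ly` and `O'N`
-/

set_option autoImplicit false

namespace Cfsg.Agent.H96.Reg

open Cfsg Cfsg.Agent.H524.RegTool

/-- **`Ly`** -/
theorem regAll_ly {G : Type*} [Group G] [Finite G] (h : Spor.IsoLy G) : RegAll G :=
  regAll_ly_of (fun _ _ _ _ => S0000.result) h

/-- **`O'N`** -/
theorem regAll_on {G : Type*} [Group G] [Finite G] (h : Spor.IsoON G) : RegAll G :=
  regAll_on_of (fun _ _ _ _ => S0000.result) h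

end Cfsg.Agent.H96.Reg
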