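import Cfsg.Agent.H149.Sp.Quot
import Cfsg.Agent.H524.RegTool
import Cfsg.Agent.H296.CommCases
import Cfsg.Agent.CpAutON.Seven
import Mathlib

/-!
# Two primes commuting with one element

* `exists_comm_of_solvable`: in a solvable group, two primes `l`, `m` with Sylow subgroups of prime order and `l ∤ m - 1`,
  `m ∤ l - 1` are adjacent;
* `not_both`: `y` an element whose centralizer has cyclic Sylow 2-subgroups;
* `reg_two`: `RegB G 2 q` from elements of order `l` and `m`.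
-/

set_option autoImplicit false

namespace Cfsg.Agent.H96.Reg

open Subgroup Cfsg Cfsg.Agent.H524.DirRed Cfsg.Agent.H524.RegTool Cfsg.Agent.H393.Iso
open Cfsg.Agent.H149.Sp

universe u

theorem adj_of {G : Type*} [Group G] {l m : ℕ} (h : Cfsg.Agent.H94.PG.Adj G l m) : Cfsg.Agent.H163.PG.Adj G l m := by
  obtain ⟨hl, hm, hne, x, y, hx, hy, hc⟩ := h
  refine ⟨x * y, ?_⟩
  rw [hc.orderOf_mul_eq_mul_orderOf_of_coprime, hx, hy]
  rw [hx, hy]
  exact (Nat.coprime_primes hl hm).2 hne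

/-- a group of order `l m` in which the Sylow `l`-subgroup is normal -/
theorem normal_of_card {H : Type*} [Group H] [Finite H] {l m : ℕ} (hl : l.Prime) (hm : m.Prime)
    (hH : Nat.card H = l * m) (hlm : l ≠ m) (h5 : ¬ l ∣ m - 1) {x : H} (hx : orderOf x = l) : (zpowers x).Normal := by
  have hfl : Fact l.Prime := ⟨hl⟩
  have h2 : ¬ l ^ 2 ∣ Nat.card H := by
    rw [hH, pow_two]
    intro h
    have := Nat.dvd_of_mul_dvd_mul_left hl.pos h
    exact hlm ((Nat.prime_dvd_prime_iff_eq hl hm).1 this)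
  obtain ⟨P, hP⟩ := Eng.exists_sylow hl h2 hx
  have h3 : (P : Subgroup H).index = m := by
    have h4 := (P : Subgroup H).card_mul_index
    rw [hP, Nat.card_zpowers, hx, hH] at h4
    rw [hP]
    exact Nat.eq_of_mul_eq_mul_left hl.pos h4
  have h4 : Nat.card (Sylow l H) ∣ m := h3 ▸ Sylow.card_dvd_index P
  have h6 : Nat.card (Sylow l H) = 1 := by
    rcases (Nat.dvd_prime hm).1 h4 with h | h
    · exact h
    · exfalso
      have h7 := card_sylow_modEq_one l H
      rw [h] at h7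
      exact h5 ((Nat.modEq_iff_dvd' hm.one_lt.le).1 h7.symm)
  have h8 : Subsingleton (Sylow l H) := (Nat.card_eq_one_iff_unique.1 h6).1
  rw [← hP]
  exact Sylow.normal_of_subsingleton P

theorem exists_comm_of_solvable {X : Type*} [Group X] [Finite X] [Group.IsSolvable X] {l m : ℕ} (hl : l.Prime)
    (hm : m.Prime) (hlm : l ≠ m) (h1 : l ∣ Nat.card X) (h2 : m ∣ Nat.card X) (h3 : ¬ l ^ 2 ∣ Nat.card X)
    (h4 : ¬ m ^ 2 ∣ Nat.card X) (h5 : ¬ l ∣ m - 1) (h6 : ¬ m ∣ l - 1) :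
    ∃ x y : X, orderOf x = l ∧ orderOf y = m ∧ x * y = y * x := by
  have hfl : Fact l.Prime := ⟨hl⟩
  have hfm : Fact m.Prime := ⟨hm⟩
  have hc : Nat.Coprime l m := (Nat.coprime_primes hl hm).2 hlm
  obtain ⟨n, hn⟩ := hc.mul_dvd_of_dvd_of_dvd h1 h2
  have hln : ¬ l ∣ n := by
    rintro ⟨n', rfl⟩
    exact h3 ⟨m * n', by rw [hn]; ring⟩
  have hmn : ¬ m ∣ n := by
    rintro ⟨n', rfl⟩
    exact h4 ⟨l * n', by rw [hn]; ring⟩
  obtain ⟨H, hH⟩ := Solvable.Hall.hall_exists (l * m) n hn (Nat.Coprime.mul_left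
    ((Nat.Prime.coprime_iff_not_dvd hl).2 hln) ((Nat.Prime.coprime_iff_not_dvd hm).2 hmn))
  obtain ⟨x, hx⟩ := exists_prime_orderOf_dvd_card' (G := H) l (hH ▸ dvd_mul_right _ _)
  obtain ⟨y, hy⟩ := exists_prime_orderOf_dvd_card' (G := H) m (hH ▸ dvd_mul_left _ _)
  have nx := normal_of_card hl hm hH hlm h5 hx
  have ny := normal_of_card hm hl (by rw [hH, mul_comm]) hlm.symm h6 hy
  have hd : Disjoint (zpowers x) (zpowers y) := by
    apply disjoint_of_coprime_natCard
    rwa [Nat.card_zpowers, Nat.card_zpowers, hx, hy]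
  have hxy := commute_of_normal_of_disjoint _ _ nx ny hd x y (mem_zpowers x) (mem_zpowers y)
  exact ⟨x, y, by rw [orderOf_coe, hx], by rw [orderOf_coe, hy], congrArg Subtype.val hxy.eq⟩

/-- elements of orders `l`, `m` do not both commute with `y` if `C(y)` is solvable -/
theorem not_both {G : Type*} [Group G] [Finite G] {l m : ℕ} (hl : l.Prime)
    (hm : m.Prime) (hlm : l ≠ m) (h3 : ¬ l ^ 2 ∣ Nat.card G) (h4 : ¬ m ^ 2 ∣ Nat.card G) (h5 : ¬ l ∣ m - 1)
    (h6 : ¬ m ∣ l - 1) (hadj : ¬ Cfsg.Agent.H163.PG.Adj G l m) {y a b : G} (ha : orderOf a = l) (hb : orderOf b = m)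
    (hay : Commute a y) (hby : Commute b y) (hsol : Group.IsSolvable ↥(centralizer ({y} : Set G))) : False := by
  have haC : a ∈ centralizer ({y} : Set G) := mem_centralizer_singleton_iff.2 hay
  have hbC : b ∈ centralizer ({y} : Set G) := mem_centralizer_singleton_iff.2 hby
  have h1 : l ∣ Nat.card ↥(centralizer ({y} : Set G)) := by
    have h0 : orderOf (⟨a, haC⟩ : ↥(centralizer ({y} : Set G))) = l := by rw [← ha, ← orderOf_coe]
    exact h0 ▸ orderOf_dvd_natCard _
  have h2 : m ∣ Nat.card ↥(centralizer ({y} : Set G)) := by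
    have h0 : orderOf (⟨b, hbC⟩ : ↥(centralizer ({y} : Set G))) = m := by rw [← hb, ← orderOf_coe]
    exact h0 ▸ orderOf_dvd_natCard _
  obtain ⟨x, z, hx, hz, hxz⟩ := exists_comm_of_solvable hl hm hlm h1 h2
    (fun h => h3 (h.trans (card_subgroup_dvd_card _))) (fun h => h4 (h.trans (card_subgroup_dvd_card _))) h5 h6
  apply hadj
  refine ⟨(x : G) * z, ?_⟩
  have h7 : Commute (x : G) z := congrArg Subtype.val hxz
  rw [h7.orderOf_mul_eq_mul_orderOf_of_coprime, orderOf_coe, orderOf_coe, hx, hz]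
  rw [orderOf_coe, orderOf_coe, hx, hz]
  exact (Nat.coprime_primes hl hm).2 hlm

/-- `RegB G 2 q` if no element of order `q` commutes with elements of orders `l` and `m`. -/
theorem reg_two {G : Type*} [Group G] [Finite G] {l m q : ℕ} (hq : q.Prime) (hqd : q ∣ Nat.card G) (hl : l.Prime)
    (hm : m.Prime) (hl2 : l ≠ 2) (hm2 : m ≠ 2) (hld : l ∣ Nat.card G) (hmd : m ∣ Nat.card G)
    (h : ∀ y a b : G, orderOf y = q → orderOf a = l → orderOf b = m → Commute a y → Commute b y → False) :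
    RegB G 2 q := by
  have hfl : Fact l.Prime := ⟨hl⟩
  have hfm : Fact m.Prime := ⟨hm⟩
  have hfq : Fact q.Prime := ⟨hq⟩
  by_contra hcon
  obtain ⟨y, hy⟩ := exists_prime_orderOf_dvd_card' (G := G) q hqd
  obtain ⟨a, ha⟩ := exists_prime_orderOf_dvd_card' (G := G) l hld
  obtain ⟨b, hb⟩ := exists_prime_orderOf_dvd_card' (G := G) m hmd
  have key : ∀ (r : ℕ), r.Prime → r ≠ 2 → ∀ c : G, orderOf c = r → ∃ c' : G, orderOf c' = r ∧ Commute c' y := by
    intro r hr hr2 c hc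
    obtain ⟨g, hg⟩ := exists_conj_comm_of_not (k := 1) hq hcon (x := c)
      (by rw [hc]; exact fun h => hr2 ((Nat.prime_dvd_prime_iff_eq Nat.prime_two hr).1 h).symm)
      (y := y) (by rw [hy, pow_one])
    refine ⟨g⁻¹ * c * g, ?_, ?_⟩
    · have h1 := orderOf_injective (MulAut.conj g⁻¹).toMonoidHom (MulAut.conj g⁻¹).injective c
      rw [← hc, ← h1]
      congr 1
      simp
    · have h1 := hg.eq
      show g⁻¹ * c * g * y = y * (g⁻¹ * c * g)
      calc g⁻¹ * c * g * y = g⁻¹ * (c * (g * y * g⁻¹)) * g := by group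
        _ = g⁻¹ * ((g * y * g⁻¹) * c) * g := by rw [h1]
        _ = y * (g⁻¹ * c * g) := by group
  obtain ⟨a', ha', hay⟩ := key l hl hl2 a ha
  obtain ⟨b', hb', hby⟩ := key m hm hm2 b hb
  exact h y a' b' hy ha' hb' hay hby

end Cfsg.Agent.H96.Reg
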